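import Cfsg.Agent.SpUnip77.Class

/-!
Normal forms of skew nilpotent matrices, and the Cayley transform (helper77).
-/

set_option autoImplicit false
set_option linter.unusedSectionVars false
set_option linter.style.haveILetI false

namespace Cfsg.Agent.SpUnip77

open Matrix
open Cfsg.Agent.GraphAut (bf Cong matrix_ext cong_of_isSquare cong_skew)

universe u

variable {p : ℕ} {F : Type u} [Field F] [Finite F]

/-- A congruence as a matrix identity. -/
theorem exists_matrix {ι κ : Type} [Fintype ι] [DecidableEq ι] [Fintype κ] [DecidableEq κ]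
    {A : Matrix κ κ F} {B : Matrix ι ι F} (h : Cong (bf A) (bf B)) :
    ∃ (L : Matrix ι κ F) (L' : Matrix κ ι F), L * L' = 1 ∧ L' * L = 1 ∧ Lᵀ * B * L = A := by
  obtain ⟨j, hj⟩ := h
  refine ⟨LinearMap.toMatrix' j.toLinearMap, LinearMap.toMatrix' j.symm.toLinearMap, ?_, ?_, ?_⟩
  · rw [← LinearMap.toMatrix'_comp, LinearEquiv.comp_coe, LinearEquiv.symm_trans_self, LinearEquiv.refl_toLinearMap,
      LinearMap.toMatrix'_id]
  · rw [← LinearMap.toMatrix'_comp, LinearEquiv.comp_coe, LinearEquiv.self_trans_symm, LinearEquiv.refl_toLinearMap,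
      LinearMap.toMatrix'_id]
  · refine matrix_ext fun u v => ?_
    rw [← hj]
    show u ⬝ᵥ _ = j.toLinearMap u ⬝ᵥ (B *ᵥ j.toLinearMap v)
    rw [← mulVec_mulVec, ← mulVec_mulVec, dotProduct_mulVec u, vecMul_transpose,
      LinearMap.toMatrix'_mulVec, LinearMap.toMatrix'_mulVec]

/-- A form of the sign and determinant class prescribed by `k` and `c`. -/
def Good {n : ℕ} (k : ℕ) (c : Bool) (G : Matrix (Fin n) (Fin n) F) : Prop :=
  Gᵀ = (-1 : F) ^ k • G ∧ G.det ≠ 0 ∧ (Even k → n = 0 ∨ (IsSquare G.det ↔ c = true))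

theorem exists_good (h2 : (2 : F) ≠ 0) {n k : ℕ} (c : Bool) (hpar : Odd k → Even n) :
    ∃ G : Matrix (Fin n) (Fin n) F, Good k c G := by
  rcases Nat.even_or_odd k with hk | hk
  · rcases n with _ | n
    · exact ⟨1, by simp [hk.neg_one_pow], by simp, fun _ => Or.inl rfl⟩
    obtain ⟨a, ha⟩ := GraphAut.exists_nonsquare (K := F) h2
    refine ⟨Matrix.diagonal (Function.update (fun _ => (1 : F)) (Fin.last n) (if c then 1 else a)), ?_, ?_, fun _ => Or.inr ?_⟩
    · rw [diagonal_transpose, hk.neg_one_pow, one_smul]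
    · rw [GraphAut.det_diag_last]
      cases c
      · rintro (h : a = 0); exact ha (h ▸ IsSquare.zero)
      · exact one_ne_zero
    · rw [GraphAut.det_diag_last]
      cases c
      · simpa using ha
      · simp
  · obtain ⟨l, hl⟩ := hpar hk
    let e : Fin l ⊕ Fin l ≃ Fin n := finSumFinEquiv.trans (finCongr hl.symm)
    refine ⟨Matrix.reindex e e (jm l F), ?_, ?_, fun h => absurd hk (Nat.not_odd_iff_even.2 h)⟩
    · rw [transpose_reindex, Matrix.J_transpose, hk.neg_one_pow, neg_one_smul]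
      rfl
    · rw [det_reindex_self]; exact (jm_det l).ne_zero

theorem even_of_good_sign (h2 : (2 : F) ≠ 0) {n k : ℕ} {G : Matrix (Fin n) (Fin n) F}
    (hs : Gᵀ = (-1 : F) ^ k • G) (hd : G.det ≠ 0) (hk : Odd k) : Even n := by
  rw [hk.neg_one_pow, neg_one_smul] at hs
  obtain ⟨l, hl, -⟩ := cong_skew h2 hd hs
  rw [Fintype.card_fin] at hl
  exact ⟨l, by omega⟩

theorem cong_of_good (h2 : (2 : F) ≠ 0) {n k : ℕ} {G A : Matrix (Fin n) (Fin n) F} {c : Bool}
    (hG : Good k c G) (hA : Good k c A) : Cong (bf G) (bf A) := by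
  obtain ⟨hs, hd, hc⟩ := hG
  obtain ⟨hs', hd', hc'⟩ := hA
  rcases Nat.even_or_odd k with hk | hk
  · rw [hk.neg_one_pow, one_smul] at hs hs'
    refine cong_of_isSquare h2 hd hd' hs hs' ?_
    rcases hc hk with h | h
    · subst h; simp
    rcases hc' hk with h' | h'
    · subst h'; simp
    by_cases hsq : IsSquare G.det
    · exact hsq.mul (h'.2 (h.1 hsq))
    · exact GraphAut.isSquare_neg_or h2 hsq fun e => hsq (h.2 (h'.1 e))
  · rw [hk.neg_one_pow, neg_one_smul] at hs hs'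
    obtain ⟨l, hl, hG⟩ := cong_skew h2 hd hs
    obtain ⟨l', hl', hA⟩ := cong_skew h2 hd' hs'
    obtain rfl : l = l' := by omega
    exact hG.symm.trans hA

variable {d : ℕ} {m : Fin (p + 1) → ℕ}

theorem card_idx (m : Fin (p + 1) → ℕ) : Fintype.card (Idx m) = ∑ k, m k * (k : ℕ) := by
  simp [Fintype.card_sigma]

/-- Realisation of a family of forms. -/
theorem exists_realise (h2 : (2 : F) ≠ 0) (g : (k : Fin (p + 1)) → Matrix (Fin (m k)) (Fin (m k)) F)
    (hg : ∀ k : Fin (p + 1), 0 < (k : ℕ) → (g k)ᵀ = (-1 : F) ^ (k : ℕ) • g k ∧ (g k).det ≠ 0)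
    (hsum : ∑ k, m k * (k : ℕ) = 2 * d) :
    ∃ N : Matrix (Fin d ⊕ Fin d) (Fin d ⊕ Fin d) F, Skew N ∧ N ^ p = 0 ∧ Pres N m (model g) := by
  have hf := model_isForm g fun k hk => (hg k hk).1
  have hd := model_det g fun k hk => (hg k hk).2
  obtain ⟨l, hl, hcong⟩ := cong_skew h2 hd.ne_zero hf.alt
  rw [card_idx, hsum] at hl
  obtain rfl : d = l := by omega
  obtain ⟨L, L', h1, h1', hL⟩ := exists_matrix hcong
  have hp : ∀ j : ℕ, (L' * nm F m * L) ^ j * L' = L' * nm F m ^ j := by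
    intro j
    induction j with
    | zero => simp
    | succ j ih =>
      rw [pow_succ, Matrix.mul_assoc, Matrix.mul_assoc (L' * nm F m), h1, Matrix.mul_one,
        ← Matrix.mul_assoc, ih, pow_succ, Matrix.mul_assoc]
  have hJ : jm d F = Lᵀ * model g * L := hL.symm
  refine ⟨L' * nm F m * L, ?_, ?_, L', L, h1', h1, ?_, ?_⟩
  · show (L' * nm F m * L)ᵀ * jm d F = -(jm d F * (L' * nm F m * L))
    calc (L' * nm F m * L)ᵀ * jm d F = Lᵀ * ((nm F m)ᵀ * ((L * L')ᵀ * model g)) * L := by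
          rw [hJ]; simp only [transpose_mul, Matrix.mul_assoc]
      _ = -(Lᵀ * model g * (L * L') * nm F m * L) := by
          rw [h1, transpose_one, Matrix.one_mul, hf.skew, Matrix.mul_one]
          simp only [Matrix.mul_neg, Matrix.neg_mul, Matrix.mul_assoc]
      _ = _ := by rw [hJ]; simp only [Matrix.mul_assoc]
  · have := hp p
    rw [nm_pow, Matrix.mul_zero] at this
    calc (L' * nm F m * L) ^ p = (L' * nm F m * L) ^ p * (L' * L) := by rw [h1', Matrix.mul_one]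
      _ = 0 := by rw [← Matrix.mul_assoc, this, Matrix.zero_mul]
  · rw [Matrix.mul_assoc, h1, Matrix.mul_one]
  · calc L'ᵀ * jm d F * L' = (L * L')ᵀ * model g * (L * L') := by
          rw [hJ]; simp only [transpose_mul, Matrix.mul_assoc]
      _ = model g := by rw [h1, transpose_one, Matrix.one_mul, Matrix.mul_one]

/-- Every presentation can be moved to the model of congruent forms. -/
theorem Pres.normalise {q : ℕ} [Fact q.Prime] [CharP F q] (hq : q ≠ 2)
    {N : Matrix (Fin d ⊕ Fin d) (Fin d ⊕ Fin d) F} {B : Matrix (Idx m) (Idx m) F} (h : Pres N m B)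
    (hs : Skew N) (g : (k : Fin (p + 1)) → Matrix (Fin (m k)) (Fin (m k)) F)
    (hg : ∀ k : Fin (p + 1), 0 < (k : ℕ) → (g k)ᵀ = (-1 : F) ^ (k : ℕ) • g k ∧ (g k).det ≠ 0)
    (hc : ∀ k : Fin (p + 1), 0 < (k : ℕ) → Cong (bf (g k)) (bf (lead B k))) : Pres N m (model g) := by
  classical
  have hL : ∀ k : Fin (p + 1), ∃ L : Matrix (Fin (m k)) (Fin (m k)) F, L.det ≠ 0 ∧
      (0 < (k : ℕ) → Lᵀ * lead B k * L = g k) := by
    intro k
    by_cases hk : 0 < (k : ℕ)
    · obtain ⟨L, L', h1, -, h3⟩ := exists_matrix (hc k hk)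
      exact ⟨L, (isUnit_det_of_right_inverse h1).ne_zero, fun _ => h3⟩
    · exact ⟨1, by simp, fun e => absurd e hk⟩
  choose L hLd hLg using hL
  have hTd := blk_det L fun k _ => hLd k
  have h' := h.change (blk_comm L) hTd
  have hf := h'.isForm hs
  have hlead : ∀ k : Fin (p + 1), 0 < (k : ℕ) → lead (model g) k = lead ((blk L)ᵀ * B * blk L) k := by
    intro k hk
    rw [lead_model g hk, lead_mul (blk_comm L) (blk_comm L) (h.isForm hs) hk, top_blk L hk, hLg k hk]
  obtain ⟨φ, hφc, hφ⟩ := exists_sqrt q hq hf (model_isForm g fun k hk => (hg k hk).1) h'.det hlead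
  have hφd : IsUnit φ.det := by
    have := model_det g fun k hk => (hg k hk).2
    rw [← hφ, det_mul] at this
    exact isUnit_of_mul_isUnit_right this
  rw [← hφ]
  exact h'.change hφc hφd

/-- The square classes of the leading determinants are invariants. -/
theorem Pres.isSquare_iff {N : Matrix (Fin d ⊕ Fin d) (Fin d ⊕ Fin d) F} {B B' : Matrix (Idx m) (Idx m) F}
    (h : Pres N m B) (h' : Pres N m B') (hs : Skew N) {k : Fin (p + 1)} (hk : 0 < (k : ℕ)) :
    IsSquare (lead B' k).det ↔ IsSquare (lead B k).det := by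
  have hB := h.isForm hs
  have hd' := (h'.isForm hs).lead_det h'.det hk
  obtain ⟨Q, Q', h1, h2, h3, h4⟩ := h
  obtain ⟨R, R', e1, e2, e3, e4⟩ := h'
  have hc : Commute (Q' * R) (nm F m) := by
    show Q' * R * nm F m = nm F m * (Q' * R)
    have hN : Q' * N = nm F m * Q' := by
      calc Q' * N = Q' * (N * Q) * Q' := by rw [Matrix.mul_assoc, Matrix.mul_assoc N, h1, Matrix.mul_one]
        _ = nm F m * Q' := by rw [h3, ← Matrix.mul_assoc Q', h2, Matrix.one_mul]
    rw [Matrix.mul_assoc, ← e3, ← Matrix.mul_assoc, hN, Matrix.mul_assoc]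
  have hB' : B' = (Q' * R)ᵀ * B * (Q' * R) := by
    rw [← e4, ← h4]
    calc Rᵀ * jm d F * R = Rᵀ * ((Q * Q')ᵀ * jm d F * (Q * Q')) * R := by
          rw [h1, transpose_one, Matrix.one_mul, Matrix.mul_one]
      _ = _ := by simp only [transpose_mul, Matrix.mul_assoc]
  rw [hB', lead_mul hc hc hB hk, det_mul, det_mul, det_transpose]
  have ht : (top (Q' * R) k).det ≠ 0 := by
    intro e
    rw [hB', lead_mul hc hc hB hk, det_mul, e, mul_zero] at hd'
    exact hd' rfl
  set t := (top (Q' * R) k).det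
  constructor
  · rintro ⟨r, hr⟩
    refine ⟨r / t, ?_⟩
    field_simp
    linear_combination hr
  · rintro ⟨r, hr⟩
    exact ⟨r * t, by rw [hr]; ring⟩

section Cayley

variable {n : Type*} [Fintype n] [DecidableEq n]

/-- The Cayley transform. -/
noncomputable def cay (N : Matrix n n F) : Matrix n n F := (1 + N) * (1 - N)⁻¹

/-- The inverse Cayley transform. -/
noncomputable def uncay (g : Matrix n n F) : Matrix n n F := (g - 1) * (g + 1)⁻¹

theorem cay_mul {N : Matrix n n F} (h : IsUnit (1 - N).det) : cay N * (1 - N) = 1 + N := by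
  rw [cay, Matrix.mul_assoc, nonsing_inv_mul _ h, Matrix.mul_one]

theorem uncay_mul {g : Matrix n n F} (h : IsUnit (g + 1).det) : uncay g * (g + 1) = g - 1 := by
  rw [uncay, Matrix.mul_assoc, nonsing_inv_mul _ h, Matrix.mul_one]

theorem mul_uncay {g : Matrix n n F} (h : IsUnit (g + 1).det) : (g + 1) * uncay g = g - 1 := by
  rw [uncay, ← Matrix.mul_assoc, show (g + 1) * (g - 1) = (g - 1) * (g + 1) by noncomm_ring,
    Matrix.mul_assoc, mul_nonsing_inv _ h, Matrix.mul_one]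

theorem unit_one_sub {N : Matrix n n F} {j : ℕ} (hN : N ^ j = 0) : IsUnit (1 - N).det :=
  (Matrix.isUnit_iff_isUnit_det _).1 (IsNilpotent.isUnit_one_sub ⟨j, hN⟩)

theorem unit_add_one (h2 : (2 : F) ≠ 0) {g : Matrix n n F} {j : ℕ} (hg : (g - 1) ^ j = 0) :
    IsUnit (g + 1).det := by
  refine (Matrix.isUnit_iff_isUnit_det _).1 ?_
  have e : g + 1 = (2 : F) • (1 + (2 : F)⁻¹ • (g - 1)) := by
    rw [smul_add, smul_smul, mul_inv_cancel₀ h2, one_smul, two_smul]
    abel
  have hn : IsNilpotent ((2 : F)⁻¹ • (g - 1)) := ⟨j, by rw [smul_pow, hg, smul_zero]⟩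
  rw [e]
  exact (hn.isUnit_one_add).smul (Units.mk0 (2 : F) h2)

theorem cay_sub_one_pow {N : Matrix n n F} {j : ℕ} (hN : N ^ j = 0) : (cay N - 1) ^ j = 0 := by
  have hu := unit_one_sub hN
  have e : cay N - 1 = (2 : F) • (N * (1 - N)⁻¹) := by
    calc cay N - 1 = ((1 + N) - (1 - N)) * (1 - N)⁻¹ := by
          rw [Matrix.sub_mul, mul_nonsing_inv _ hu, cay]
      _ = _ := by
          rw [← Matrix.smul_mul, two_smul]
          congr 1
          abel
  have hc : Commute N (1 - N)⁻¹ := by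
    show N * (1 - N)⁻¹ = (1 - N)⁻¹ * N
    calc N * (1 - N)⁻¹ = ((1 - N)⁻¹ * (1 - N)) * N * (1 - N)⁻¹ := by
          rw [nonsing_inv_mul _ hu, Matrix.one_mul]
      _ = (1 - N)⁻¹ * (N * ((1 - N) * (1 - N)⁻¹)) := by noncomm_ring
      _ = _ := by rw [mul_nonsing_inv _ hu, Matrix.mul_one]
  rw [e, smul_pow, hc.mul_pow, hN, Matrix.zero_mul, smul_zero]

theorem uncay_pow (h2 : (2 : F) ≠ 0) {g : Matrix n n F} {j : ℕ} (hg : (g - 1) ^ j = 0) :
    uncay g ^ j = 0 := by
  have hu := unit_add_one h2 hg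
  have hc : Commute (g - 1) (g + 1)⁻¹ := by
    show (g - 1) * (g + 1)⁻¹ = (g + 1)⁻¹ * (g - 1)
    calc (g - 1) * (g + 1)⁻¹ = ((g + 1)⁻¹ * (g + 1)) * (g - 1) * (g + 1)⁻¹ := by
          rw [nonsing_inv_mul _ hu, Matrix.one_mul]
      _ = (g + 1)⁻¹ * ((g - 1) * ((g + 1) * (g + 1)⁻¹)) := by noncomm_ring
      _ = _ := by rw [mul_nonsing_inv _ hu, Matrix.mul_one]
  rw [uncay, hc.mul_pow, hg, Matrix.zero_mul]

theorem cay_uncay (h2 : (2 : F) ≠ 0) {g : Matrix n n F} {j : ℕ} (hg : (g - 1) ^ j = 0) :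
    cay (uncay g) = g := by
  have hu := unit_one_sub (uncay_pow h2 hg)
  have key : g * (1 - uncay g) = 1 + uncay g := by
    rw [← sub_eq_zero]
    calc g * (1 - uncay g) - (1 + uncay g) = (g - 1) - (g + 1) * uncay g := by noncomm_ring
      _ = 0 := by rw [mul_uncay (unit_add_one h2 hg), sub_self]
  rw [cay, ← key, Matrix.mul_assoc, mul_nonsing_inv _ hu, Matrix.mul_one]

theorem uncay_cay (h2 : (2 : F) ≠ 0) {N : Matrix n n F} {j : ℕ} (hN : N ^ j = 0) :
    uncay (cay N) = N := by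
  have hu := unit_one_sub hN
  have hu' := unit_add_one h2 (cay_sub_one_pow hN)
  have key : N * (cay N + 1) = cay N - 1 := by
    calc N * (cay N + 1) = N * (cay N + 1) * (1 - N) * (1 - N)⁻¹ := by
          rw [Matrix.mul_assoc _ (1 - N), mul_nonsing_inv _ hu, Matrix.mul_one]
      _ = (N * (cay N * (1 - N) + (1 - N))) * (1 - N)⁻¹ := by noncomm_ring
      _ = ((cay N * (1 - N) - (1 - N))) * (1 - N)⁻¹ := by rw [cay_mul hu]; noncomm_ring
      _ = (cay N - 1) * ((1 - N) * (1 - N)⁻¹) := by noncomm_ring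
      _ = _ := by rw [mul_nonsing_inv _ hu, Matrix.mul_one]
  rw [uncay, ← key, Matrix.mul_assoc, mul_nonsing_inv _ hu', Matrix.mul_one]

theorem cay_intertwine {N N' h : Matrix n n F} {j : ℕ} (hN : N ^ j = 0) (hN' : N' ^ j = 0)
    (hh : h * N = N' * h) : h * cay N = cay N' * h := by
  have hu := unit_one_sub hN
  have hu' := unit_one_sub hN'
  have hi : h * (1 - N)⁻¹ = (1 - N')⁻¹ * h := by
    calc h * (1 - N)⁻¹ = (1 - N')⁻¹ * (1 - N') * h * (1 - N)⁻¹ := by
          rw [nonsing_inv_mul _ hu', Matrix.one_mul]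
      _ = (1 - N')⁻¹ * (h * (1 - N)) * (1 - N)⁻¹ := by
          rw [show h * (1 - N) = (1 - N') * h by
            rw [Matrix.mul_sub, Matrix.sub_mul, Matrix.mul_one, Matrix.one_mul, hh]]
          simp only [Matrix.mul_assoc]
      _ = _ := by
          rw [Matrix.mul_assoc, Matrix.mul_assoc h, mul_nonsing_inv _ hu, Matrix.mul_one]
  calc h * cay N = (h * (1 + N)) * (1 - N)⁻¹ := by rw [cay, Matrix.mul_assoc]
    _ = ((1 + N') * h) * (1 - N)⁻¹ := by rw [Matrix.mul_add, Matrix.mul_one, hh]; noncomm_ring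
    _ = _ := by rw [Matrix.mul_assoc, hi, cay, Matrix.mul_assoc]

theorem uncay_intertwine (h2 : (2 : F) ≠ 0) {g g' h : Matrix n n F} {j : ℕ} (hg : (g - 1) ^ j = 0)
    (hg' : (g' - 1) ^ j = 0) (hh : h * g = g' * h) : h * uncay g = uncay g' * h := by
  have hu := unit_add_one h2 hg
  have hu' := unit_add_one h2 hg'
  have hi : h * (g + 1)⁻¹ = (g' + 1)⁻¹ * h := by
    calc h * (g + 1)⁻¹ = (g' + 1)⁻¹ * (g' + 1) * h * (g + 1)⁻¹ := by
          rw [nonsing_inv_mul _ hu', Matrix.one_mul]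
      _ = (g' + 1)⁻¹ * (h * (g + 1)) * (g + 1)⁻¹ := by
          rw [show h * (g + 1) = (g' + 1) * h by
            rw [Matrix.mul_add, Matrix.add_mul, Matrix.mul_one, Matrix.one_mul, hh]]
          simp only [Matrix.mul_assoc]
      _ = _ := by
          rw [Matrix.mul_assoc, Matrix.mul_assoc h, mul_nonsing_inv _ hu, Matrix.mul_one]
  calc h * uncay g = (h * (g - 1)) * (g + 1)⁻¹ := by rw [uncay, Matrix.mul_assoc]
    _ = ((g' - 1) * h) * (g + 1)⁻¹ := by rw [Matrix.mul_sub, Matrix.mul_one, hh]; noncomm_ring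
    _ = _ := by rw [Matrix.mul_assoc, hi, uncay, Matrix.mul_assoc]

end Cayley

theorem cay_preserves {N : Matrix (Fin d ⊕ Fin d) (Fin d ⊕ Fin d) F} (hs : Skew N) {j : ℕ} (hN : N ^ j = 0) :
    (cay N)ᵀ * jm d F * cay N = jm d F := by
  have hu := unit_one_sub hN
  have h1 : (1 + N)ᵀ * jm d F = jm d F * (1 - N) := by
    rw [transpose_add, transpose_one, Matrix.add_mul, hs, Matrix.mul_sub, Matrix.one_mul, Matrix.mul_one]
    abel
  have h2 : (1 - N)ᵀ * jm d F = jm d F * (1 + N) := by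
    rw [transpose_sub, transpose_one, Matrix.sub_mul, hs, Matrix.mul_add, Matrix.one_mul, Matrix.mul_one]
    abel
  have hc : (1 - N) * (1 + N) = (1 + N) * (1 - N) := by noncomm_ring
  calc (cay N)ᵀ * jm d F * cay N = ((1 - N)⁻¹)ᵀ * ((1 + N)ᵀ * jm d F) * (1 + N) * (1 - N)⁻¹ := by
        rw [cay, transpose_mul]; simp only [Matrix.mul_assoc]
    _ = ((1 - N)⁻¹)ᵀ * (jm d F * ((1 - N) * (1 + N))) * (1 - N)⁻¹ := by
        rw [h1]; simp only [Matrix.mul_assoc]
    _ = ((1 - N) * (1 - N)⁻¹)ᵀ * jm d F * ((1 - N) * (1 - N)⁻¹) := by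
        rw [hc, transpose_mul, ← Matrix.mul_assoc (jm d F), ← h2]
        simp only [Matrix.mul_assoc]
    _ = _ := by rw [mul_nonsing_inv _ hu, transpose_one, Matrix.one_mul, Matrix.mul_one]

theorem uncay_skew (h2 : (2 : F) ≠ 0) {g : Matrix (Fin d ⊕ Fin d) (Fin d ⊕ Fin d) F}
    (hgJ : gᵀ * jm d F * g = jm d F) {j : ℕ} (hg : (g - 1) ^ j = 0) : Skew (uncay g) := by
  have hu := unit_add_one h2 hg
  have hut : IsUnit (g + 1)ᵀ.det := by rw [det_transpose]; exact hu
  have key : (g - 1)ᵀ * jm d F * (g + 1) = -((g + 1)ᵀ * jm d F * (g - 1)) := by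
    rw [← sub_eq_zero, sub_neg_eq_add, transpose_sub, transpose_add, transpose_one]
    calc (gᵀ - 1) * jm d F * (g + 1) + (gᵀ + 1) * jm d F * (g - 1)
        = (gᵀ * jm d F * g - jm d F) + (gᵀ * jm d F * g - jm d F) := by noncomm_ring
      _ = 0 := by rw [hgJ, sub_self, add_zero]
  have e : (g + 1)ᵀ * ((uncay g)ᵀ * jm d F + jm d F * uncay g) * (g + 1) = 0 := by
    calc (g + 1)ᵀ * ((uncay g)ᵀ * jm d F + jm d F * uncay g) * (g + 1)
        = (uncay g * (g + 1))ᵀ * jm d F * (g + 1) + (g + 1)ᵀ * jm d F * (uncay g * (g + 1)) := by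
          rw [transpose_mul]; noncomm_ring
      _ = 0 := by rw [uncay_mul hu, key, neg_add_cancel]
  have h0 : (uncay g)ᵀ * jm d F + jm d F * uncay g = 0 := by
    calc (uncay g)ᵀ * jm d F + jm d F * uncay g
        = ((g + 1)ᵀ⁻¹ * (g + 1)ᵀ) * ((uncay g)ᵀ * jm d F + jm d F * uncay g) * ((g + 1) * (g + 1)⁻¹) := by
          rw [nonsing_inv_mul _ hut, mul_nonsing_inv _ hu, Matrix.one_mul, Matrix.mul_one]
      _ = (g + 1)ᵀ⁻¹ * ((g + 1)ᵀ * ((uncay g)ᵀ * jm d F + jm d F * uncay g) * (g + 1)) * (g + 1)⁻¹ := by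
          simp only [Matrix.mul_assoc]
      _ = 0 := by rw [e, Matrix.mul_zero, Matrix.zero_mul]
  exact eq_neg_of_add_eq_zero_left h0

theorem pow_char_iff {q : ℕ} [Fact q.Prime] [CharP F q] (g : Matrix (Fin d ⊕ Fin d) (Fin d ⊕ Fin d) F) :
    g ^ q = 1 ↔ (g - 1) ^ q = 0 := by
  rcases isEmpty_or_nonempty (Fin d ⊕ Fin d) with he | he
  · exact ⟨fun _ => Subsingleton.elim _ _, fun _ => Subsingleton.elim _ _⟩
  haveI : CharP (Matrix (Fin d ⊕ Fin d) (Fin d ⊕ Fin d) F) q := charP_of_injective_algebraMap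
    (FaithfulSMul.algebraMap_injective F _) q
  rw [sub_pow_char_of_commute (p := q) (Commute.one_right g), one_pow, sub_eq_zero]

end Cfsg.Agent.SpUnip77
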