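import Cfsg.Agent.SpUnip77.Weight
import Cfsg.Agent.GraphAut.Classify
import Cfsg.Agent.KnownSimple58.CyclicDecomp

/-!
Skew nilpotent matrices of bounded height: presentations by models and their uniqueness (helper77).
-/

set_option autoImplicit false
set_option linter.unusedSectionVars false
set_option linter.style.haveILetI false

namespace Cfsg.Agent.SpUnip77

open Matrix Polynomial Module
open scoped Kronecker

universe u

variable {p : ℕ} {F : Type u} [Field F]

/-- The standard alternating matrix. -/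
abbrev jm (d : ℕ) (F : Type u) [Field F] : Matrix (Fin d ⊕ Fin d) (Fin d ⊕ Fin d) F := Matrix.J (Fin d) F

theorem jm_det (d : ℕ) : IsUnit (jm d F).det := Matrix.isUnit_det_J _ _

/-- Skew for the standard form. -/
def Skew {d : ℕ} (N : Matrix (Fin d ⊕ Fin d) (Fin d ⊕ Fin d) F) : Prop := Nᵀ * jm d F = -(jm d F * N)

/-- `N` with the standard form looks like the model with the form `B`. -/
def Pres {d : ℕ} (N : Matrix (Fin d ⊕ Fin d) (Fin d ⊕ Fin d) F) (m : Fin (p + 1) → ℕ)
    (B : Matrix (Idx m) (Idx m) F) : Prop :=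
  ∃ (Q : Matrix (Fin d ⊕ Fin d) (Idx m) F) (Q' : Matrix (Idx m) (Fin d ⊕ Fin d) F),
    Q * Q' = 1 ∧ Q' * Q = 1 ∧ N * Q = Q * nm F m ∧ Qᵀ * jm d F * Q = B

variable {d : ℕ} {N N' : Matrix (Fin d ⊕ Fin d) (Fin d ⊕ Fin d) F} {m : Fin (p + 1) → ℕ}
  {B : Matrix (Idx m) (Idx m) F}

theorem Pres.isForm (h : Pres N m B) (hs : Skew N) : IsForm B := by
  obtain ⟨Q, Q', h1, h2, h3, rfl⟩ := h
  refine ⟨?_, ?_⟩
  · calc (nm F m)ᵀ * (Qᵀ * jm d F * Q) = (Q * nm F m)ᵀ * jm d F * Q := by
          rw [transpose_mul]; simp only [Matrix.mul_assoc]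
      _ = Qᵀ * (Nᵀ * jm d F) * Q := by rw [← h3, transpose_mul]; simp only [Matrix.mul_assoc]
      _ = -(Qᵀ * jm d F * (N * Q)) := by
          rw [hs]; simp only [Matrix.mul_neg, Matrix.neg_mul, Matrix.mul_assoc]
      _ = -(Qᵀ * jm d F * Q * nm F m) := by rw [h3]; simp only [Matrix.mul_assoc]
  · rw [transpose_mul, transpose_mul, transpose_transpose, Matrix.J_transpose]
    simp only [Matrix.mul_neg, Matrix.neg_mul, Matrix.mul_assoc]

theorem Pres.det (h : Pres N m B) : IsUnit B.det := by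
  obtain ⟨Q, Q', h1, h2, -, rfl⟩ := h
  refine isUnit_det_of_right_inverse (B := Q' * (jm d F)⁻¹ * Q'ᵀ) ?_
  calc Qᵀ * jm d F * Q * (Q' * (jm d F)⁻¹ * Q'ᵀ) = Qᵀ * (jm d F * (Q * Q') * (jm d F)⁻¹) * Q'ᵀ := by
        simp only [Matrix.mul_assoc]
    _ = 1 := by
        rw [h1, Matrix.mul_one, mul_nonsing_inv _ (jm_det d), Matrix.mul_one, ← transpose_mul, h2, transpose_one]

theorem Pres.change (h : Pres N m B) {T : Matrix (Idx m) (Idx m) F} (hT : Commute T (nm F m))
    (hTd : IsUnit T.det) : Pres N m (Tᵀ * B * T) := by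
  obtain ⟨Q, Q', h1, h2, h3, h4⟩ := h
  refine ⟨Q * T, T⁻¹ * Q', ?_, ?_, ?_, ?_⟩
  · rw [Matrix.mul_assoc, ← Matrix.mul_assoc T, mul_nonsing_inv _ hTd, Matrix.one_mul, h1]
  · rw [Matrix.mul_assoc, ← Matrix.mul_assoc Q', h2, Matrix.one_mul, nonsing_inv_mul _ hTd]
  · rw [← Matrix.mul_assoc, h3, Matrix.mul_assoc, ← hT.eq, Matrix.mul_assoc]
  · rw [← h4, transpose_mul]; simp only [Matrix.mul_assoc]

/-- Presentations by one form give a conjugating isometry. -/
theorem Pres.conj (h : Pres N m B) (h' : Pres N' m B) :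
    ∃ g g' : Matrix (Fin d ⊕ Fin d) (Fin d ⊕ Fin d) F, g * g' = 1 ∧ gᵀ * jm d F * g = jm d F ∧ g * N = N' * g := by
  obtain ⟨Q, Q', h1, h2, h3, h4⟩ := h
  obtain ⟨R, R', e1, e2, e3, e4⟩ := h'
  refine ⟨R * Q', Q * R', ?_, ?_, ?_⟩
  · rw [Matrix.mul_assoc, ← Matrix.mul_assoc Q', h2, Matrix.one_mul, e1]
  · calc (R * Q')ᵀ * jm d F * (R * Q') = Q'ᵀ * (Rᵀ * jm d F * R) * Q' := by
          rw [transpose_mul]; simp only [Matrix.mul_assoc]
      _ = (Q * Q')ᵀ * jm d F * (Q * Q') := by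
          rw [e4, ← h4, transpose_mul]; simp only [Matrix.mul_assoc]
      _ = jm d F := by rw [h1, transpose_one, Matrix.one_mul, Matrix.mul_one]
  · have hN : Q' * N = nm F m * Q' := by
      calc Q' * N = Q' * (N * Q) * Q' := by rw [Matrix.mul_assoc, Matrix.mul_assoc N, h1, Matrix.mul_one]
        _ = nm F m * Q' := by rw [h3, ← Matrix.mul_assoc Q', h2, Matrix.one_mul]
    rw [Matrix.mul_assoc, hN, ← Matrix.mul_assoc, ← e3, Matrix.mul_assoc]

theorem Pres.of_conj (h : Pres N m B) {g g' : Matrix (Fin d ⊕ Fin d) (Fin d ⊕ Fin d) F} (hg : g * g' = 1)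
    (hJ : gᵀ * jm d F * g = jm d F) (hN : g * N = N' * g) : Pres N' m B := by
  obtain ⟨Q, Q', h1, h2, h3, h4⟩ := h
  have hg' : g' * g = 1 := mul_eq_one_comm.1 hg
  refine ⟨g * Q, Q' * g', ?_, ?_, ?_, ?_⟩
  · rw [Matrix.mul_assoc, ← Matrix.mul_assoc Q, h1, Matrix.one_mul, hg]
  · rw [Matrix.mul_assoc, ← Matrix.mul_assoc g', hg', Matrix.one_mul, h2]
  · rw [← Matrix.mul_assoc, ← hN, Matrix.mul_assoc, h3, Matrix.mul_assoc]
  · calc (g * Q)ᵀ * jm d F * (g * Q) = Qᵀ * (gᵀ * jm d F * g) * Q := by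
          rw [transpose_mul]; simp only [Matrix.mul_assoc]
      _ = B := by rw [hJ, h4]

theorem nm_pow_mulVec (j : ℕ) (v : Idx m → F) (k : Fin (p + 1)) (s : Fin (m k)) : ∀ (i : ℕ) (hi : i < (k : ℕ)),
    ((nm F m ^ j) *ᵥ v) (ix k s i hi) = if j ≤ i then v (ix k s (i - j) (by omega)) else 0 := by
  induction j with
  | zero => intro i hi; simp
  | succ j ih =>
    intro i hi
    have e : ∀ (w : Idx m → F) x, (nm F m *ᵥ w) x = (nm F m * Matrix.of fun z _ => w z) x x := fun _ _ => rfl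
    rw [pow_succ', ← mulVec_mulVec, e, nm_mul_apply, of_apply]
    by_cases h : 0 < i
    · rw [if_pos h, ih]
      by_cases h' : j + 1 ≤ i
      · rw [if_pos h', if_pos (by omega)]
        congr 1
        simp only [show i - 1 - j = i - (j + 1) by omega]
      · rw [if_neg h', if_neg (by omega)]
    · rw [if_neg h, if_neg (by omega)]

theorem finrank_ker_nm (m : Fin (p + 1) → ℕ) (j : ℕ) :
    finrank F (LinearMap.ker (Matrix.toLin' (nm F m ^ j))) = ∑ k, m k * min j (k : ℕ) := by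
  classical
  let D := {x : Idx m // (x.1 : ℕ) ≤ (x.2.2 : ℕ) + j}
  let E : LinearMap.ker (Matrix.toLin' (nm F m ^ j)) ≃ₗ[F] (D → F) :=
    { toFun := fun v x => (v : Idx m → F) x.1
      map_add' := fun _ _ => rfl
      map_smul' := fun _ _ => rfl
      invFun := fun w => ⟨fun x => if h : (x.1 : ℕ) ≤ (x.2.2 : ℕ) + j then w ⟨x, h⟩ else 0, by
        rw [LinearMap.mem_ker, Matrix.toLin'_apply]
        funext x
        obtain ⟨k, s, i, hi⟩ := x
        rw [show (⟨k, (s, ⟨i, hi⟩)⟩ : Idx m) = ix k s i hi from rfl, nm_pow_mulVec]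
        split_ifs with h h'
        · exfalso; dsimp at h'; omega
        · rfl
        · rfl⟩
      left_inv := fun v => by
        apply Subtype.ext
        funext x
        dsimp only
        split_ifs with h
        · rfl
        · obtain ⟨k, s, i, hi⟩ := x
          dsimp at h
          have hv := congrFun (LinearMap.mem_ker.1 v.2) (ix k s (i + j) (by omega))
          rw [Matrix.toLin'_apply, nm_pow_mulVec, if_pos (by omega)] at hv
          simp only [show i + j - j = i by omega] at hv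
          exact hv.symm
      right_inv := fun w => by
        funext x
        exact dif_pos x.2 }
  rw [E.finrank_eq, Module.finrank_pi]
  let e : D ≃ Σ k : Fin (p + 1), Fin (m k) × {i : Fin (k : ℕ) // (k : ℕ) ≤ (i : ℕ) + j} :=
    { toFun := fun x => ⟨x.1.1, (x.1.2.1, ⟨x.1.2.2, x.2⟩)⟩
      invFun := fun y => ⟨⟨y.1, (y.2.1, y.2.2.1)⟩, y.2.2.2⟩
      left_inv := fun _ => rfl
      right_inv := fun _ => rfl }
  rw [Fintype.card_congr e, Fintype.card_sigma]
  refine Finset.sum_congr rfl fun k _ => ?_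
  rw [Fintype.card_prod, Fintype.card_fin]
  congr 1
  let f : {i : Fin (k : ℕ) // (k : ℕ) ≤ (i : ℕ) + j} ≃ Fin (min j (k : ℕ)) :=
    { toFun := fun i => ⟨(k : ℕ) - 1 - i.1, by have := i.1.isLt; have := i.2; omega⟩
      invFun := fun i => ⟨⟨(k : ℕ) - 1 - i, by have := i.isLt; omega⟩, by have := i.isLt; simp only; omega⟩
      left_inv := fun i => by
        have := i.1.isLt; have := i.2
        refine Subtype.ext (Fin.ext ?_); simp only; omega
      right_inv := fun i => by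
        have := i.isLt
        refine Fin.ext ?_; simp only; omega }
  rw [Fintype.card_congr f, Fintype.card_fin]

theorem Pres.ker (h : Pres N m B) (j : ℕ) :
    finrank F (LinearMap.ker (Matrix.toLin' (N ^ j))) = ∑ k, m k * min j (k : ℕ) := by
  obtain ⟨Q, Q', h1, h2, h3, -⟩ := h
  have hj : ∀ j, N ^ j * Q = Q * nm F m ^ j := by
    intro j
    induction j with
    | zero => simp
    | succ j ih => rw [pow_succ, Matrix.mul_assoc, h3, ← Matrix.mul_assoc, ih, pow_succ, Matrix.mul_assoc]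
  let E : (Idx m → F) ≃ₗ[F] (Fin d ⊕ Fin d → F) := Matrix.toLin'OfInv h2 h1
  have hk : LinearMap.ker (Matrix.toLin' (N ^ j)) =
      (LinearMap.ker (Matrix.toLin' (nm F m ^ j))).map E.toLinearMap := by
    ext v
    obtain ⟨w, rfl⟩ := E.surjective v
    rw [Submodule.mem_map_equiv, E.symm_apply_apply, LinearMap.mem_ker, LinearMap.mem_ker,
      Matrix.toLin'_apply, Matrix.toLin'_apply]
    show N ^ j *ᵥ (Q *ᵥ w) = 0 ↔ _
    rw [mulVec_mulVec, hj, ← mulVec_mulVec]
    exact E.map_eq_zero_iff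
  rw [hk, LinearEquiv.finrank_map_eq, finrank_ker_nm]

/-- The multiplicities are determined. -/
theorem Pres.unique {m' : Fin (p + 1) → ℕ} {B' : Matrix (Idx m') (Idx m') F} (h : Pres N m B)
    (h' : Pres N m' B') (h0 : m 0 = 0) (h0' : m' 0 = 0) : m = m' := by
  funext k
  obtain ⟨kv, hk⟩ := k
  rcases kv with _ | j
  · exact h0.trans h0'.symm
  · have key : ∀ M : Fin (p + 1) → ℕ,
        (∑ i, M i * min j (i : ℕ)) + (∑ i, M i * min (j + 2) (i : ℕ)) + M ⟨j + 1, hk⟩ =
          2 * ∑ i, M i * min (j + 1) (i : ℕ) := by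
      intro M
      rw [show M ⟨j + 1, hk⟩ = ∑ i, M i * (if (i : ℕ) = j + 1 then 1 else 0) from by
        rw [Finset.sum_eq_single (⟨j + 1, hk⟩ : Fin (p + 1))]
        · simp
        · intro i _ hi
          rw [if_neg (fun e => hi (Fin.ext e)), mul_zero]
        · simp,
        ← Finset.sum_add_distrib, ← Finset.sum_add_distrib, Finset.mul_sum]
      refine Finset.sum_congr rfl fun i _ => ?_
      rw [← mul_add, ← mul_add, mul_left_comm]
      congr 1
      split_ifs <;> omega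
    have e1 := key m
    have e2 := key m'
    rw [← h.ker, ← h.ker, ← h.ker] at e1
    rw [← h'.ker, ← h'.ker, ← h'.ker] at e2
    omega

/-- A model form. -/
def model (g : (k : Fin (p + 1)) → Matrix (Fin (m k)) (Fin (m k)) F) : Matrix (Idx m) (Idx m) F :=
  blockDiagonal' fun k => g k ⊗ₖ anti F (k : ℕ)

/-- A block matrix commuting with the model. -/
def blk (g : (k : Fin (p + 1)) → Matrix (Fin (m k)) (Fin (m k)) F) : Matrix (Idx m) (Idx m) F :=
  blockDiagonal' fun k => g k ⊗ₖ (1 : Matrix (Fin (k : ℕ)) (Fin (k : ℕ)) F)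

theorem blk_comm (g : (k : Fin (p + 1)) → Matrix (Fin (m k)) (Fin (m k)) F) : Commute (blk g) (nm F m) := by
  rw [Commute, SemiconjBy, blk, nm, ← blockDiagonal'_mul, ← blockDiagonal'_mul]
  simp only [← mul_kronecker_mul, Matrix.one_mul, Matrix.mul_one]

theorem blk_det (g : (k : Fin (p + 1)) → Matrix (Fin (m k)) (Fin (m k)) F)
    (hg : ∀ k : Fin (p + 1), 0 < (k : ℕ) → (g k).det ≠ 0) : IsUnit (blk g).det := by
  refine isUnit_det_of_right_inverse (B := blk fun k => (g k)⁻¹) ?_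
  rw [blk, blk, ← blockDiagonal'_mul, ← blockDiagonal'_one]
  congr 1
  funext k
  rcases Nat.eq_zero_or_pos (k : ℕ) with h | h
  · ext ⟨s, i⟩
    exact absurd i.isLt (by omega)
  · rw [← mul_kronecker_mul, mul_nonsing_inv _ (isUnit_iff_ne_zero.2 (hg k h)), Matrix.one_mul]
    exact one_kronecker_one

theorem top_blk (g : (k : Fin (p + 1)) → Matrix (Fin (m k)) (Fin (m k)) F) {k : Fin (p + 1)}
    (hk : 0 < (k : ℕ)) : top (blk g) k = g k := by
  ext s t
  rw [top, of_apply, dif_pos hk, blk, blockDiagonal'_apply_eq, kronecker_apply, one_apply_eq, mul_one]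

theorem anti_mul_sh (k : ℕ) : (sh F k)ᵀ * anti F k = -(anti F k * sh F k) := by
  ext i j
  simp only [mul_apply, transpose_apply, Matrix.neg_apply, sh, anti, of_apply]
  by_cases h : (i : ℕ) + 1 + j + 1 = k
  · rw [Finset.sum_eq_single (⟨(i : ℕ) + 1, by omega⟩ : Fin k),
      Finset.sum_eq_single (⟨(j : ℕ) + 1, by omega⟩ : Fin k)]
    · rw [if_pos rfl, if_pos h, if_pos (by dsimp; omega), if_pos rfl, pow_succ]; ring
    · intro b _ hb
      rw [if_neg (c := (b : ℕ) = j + 1) fun e => hb (Fin.ext e), mul_zero]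
    · simp
    · intro b _ hb
      rw [if_neg (c := (b : ℕ) = i + 1) fun e => hb (Fin.ext e), zero_mul]
    · simp
  · rw [Finset.sum_eq_zero, Finset.sum_eq_zero, neg_zero]
    · intro b _
      by_cases e : (b : ℕ) = j + 1
      · rw [if_neg (c := (i : ℕ) + b + 1 = k) (by omega), zero_mul]
      · rw [if_neg e, mul_zero]
    · intro b _
      by_cases e : (b : ℕ) = i + 1
      · rw [if_neg (c := (b : ℕ) + j + 1 = k) (by omega), mul_zero]
      · rw [if_neg e, zero_mul]

theorem anti_transpose (k : ℕ) : (anti F k)ᵀ = (-1 : F) ^ (k + 1) • anti F k := by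
  ext i j
  simp only [transpose_apply, Matrix.smul_apply, anti, of_apply, smul_eq_mul]
  by_cases h : (i : ℕ) + j + 1 = k
  · rw [if_pos (by omega), if_pos h, ← pow_add, show k + 1 + (i : ℕ) = 2 * ((i : ℕ) + 1) + j by omega,
      pow_add, pow_mul]
    simp
  · rw [if_neg (by omega), if_neg h, mul_zero]

theorem anti_sq (k : ℕ) : anti F k * ((-1 : F) ^ (k + 1) • anti F k) = 1 := by
  ext i j
  simp only [mul_apply, Matrix.smul_apply, anti, of_apply, smul_eq_mul, one_apply]
  have hi := i.isLt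
  rw [Finset.sum_eq_single (⟨k - 1 - i, by omega⟩ : Fin k)]
  · rw [if_pos (by dsimp; omega)]
    by_cases h : i = j
    · subst h
      rw [if_pos (by dsimp; omega), if_pos rfl, ← mul_assoc, ← pow_add, ← pow_add]
      dsimp
      rw [show (i : ℕ) + (k + 1) + (k - 1 - i) = 2 * k by omega, pow_mul]
      simp
    · rw [if_neg (c := _ + (j : ℕ) + 1 = k) (by dsimp; intro e; exact h (Fin.ext (by omega))), mul_zero,
        mul_zero, if_neg h]
  · intro b _ hb
    rw [if_neg (fun e => hb (Fin.ext (by dsimp; omega))), zero_mul]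
  · simp

theorem model_isForm (g : (k : Fin (p + 1)) → Matrix (Fin (m k)) (Fin (m k)) F)
    (hg : ∀ k : Fin (p + 1), 0 < (k : ℕ) → (g k)ᵀ = (-1 : F) ^ (k : ℕ) • g k) : IsForm (model g) := by
  refine ⟨?_, ?_⟩
  · rw [nm, model, blockDiagonal'_transpose, ← blockDiagonal'_mul, ← blockDiagonal'_mul, ← blockDiagonal'_neg]
    congr 1
    funext k
    rw [Pi.neg_apply, ← kroneckerMap_transpose, transpose_one, ← mul_kronecker_mul, ← mul_kronecker_mul,
      anti_mul_sh, Matrix.one_mul, Matrix.mul_one]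
    ext a b
    simp
  · rw [model, blockDiagonal'_transpose, ← blockDiagonal'_neg]
    congr 1
    funext k
    rcases Nat.eq_zero_or_pos (k : ℕ) with h | h
    · ext ⟨s, i⟩
      exact absurd i.isLt (by omega)
    · rw [Pi.neg_apply, ← kroneckerMap_transpose, hg k h, anti_transpose, smul_kronecker, kronecker_smul,
        smul_smul, ← pow_add, show (k : ℕ) + ((k : ℕ) + 1) = 2 * (k : ℕ) + 1 by omega, pow_succ, pow_mul]
      simp

theorem model_det (g : (k : Fin (p + 1)) → Matrix (Fin (m k)) (Fin (m k)) F)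
    (hg : ∀ k : Fin (p + 1), 0 < (k : ℕ) → (g k).det ≠ 0) : IsUnit (model g).det := by
  refine isUnit_det_of_right_inverse
    (B := blockDiagonal' fun k => (g k)⁻¹ ⊗ₖ ((-1 : F) ^ ((k : ℕ) + 1) • anti F (k : ℕ))) ?_
  rw [model, ← blockDiagonal'_mul, ← blockDiagonal'_one]
  congr 1
  funext k
  rcases Nat.eq_zero_or_pos (k : ℕ) with h | h
  · ext ⟨s, i⟩
    exact absurd i.isLt (by omega)
  · rw [← mul_kronecker_mul, mul_nonsing_inv _ (isUnit_iff_ne_zero.2 (hg k h)), anti_sq]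
    exact one_kronecker_one

theorem lead_model (g : (k : Fin (p + 1)) → Matrix (Fin (m k)) (Fin (m k)) F) {k : Fin (p + 1)}
    (hk : 0 < (k : ℕ)) : lead (model g) k = g k := by
  ext s t
  rw [lead, of_apply, dif_pos hk, model, blockDiagonal'_apply_eq, kronecker_apply, anti, of_apply,
    if_pos (by dsimp; omega)]
  simp

/-- Every nilpotent matrix has a Jordan presentation. -/
theorem exists_pres (hN : N ^ p = 0) :
    ∃ (m : Fin (p + 1) → ℕ) (B : Matrix (Idx m) (Idx m) F), m 0 = 0 ∧ Pres N m B := by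
  classical
  obtain ⟨ι, hι, q, e', g, ψ, hg, hψ⟩ := Cfsg.Agent.KS58.exists_cyclic_decomp N
  have hψp : ∀ (k : ℕ) v i, ψ ((N ^ k) *ᵥ v) i = AdjoinRoot.root (g i) ^ k * ψ v i := by
    intro k v i
    induction k with
    | zero => simp
    | succ k ih => rw [pow_succ', ← Matrix.mulVec_mulVec, hψ, ih, pow_succ', mul_assoc]
  have hX : ∀ i, ∃ k : Fin (p + 1), g i = X ^ (k : ℕ) := by
    intro i
    have h0 := hψp p (ψ.symm (Pi.single i 1)) i
    rw [hN, Matrix.zero_mulVec, map_zero, LinearEquiv.apply_symm_apply, Pi.single_eq_same, mul_one,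
      Pi.zero_apply, ← AdjoinRoot.mk_X, ← map_pow, eq_comm, AdjoinRoot.mk_eq_zero] at h0
    obtain ⟨k, hk, hk'⟩ := (dvd_prime_pow prime_X p).mp h0
    exact ⟨⟨k, by omega⟩, eq_of_monic_of_associated (hg i).2.2 (monic_X_pow k) hk'⟩
  choose k hgk using hX
  have hdeg : ∀ i, (g i).natDegree = (k i : ℕ) := fun i => by rw [hgk, natDegree_X_pow]
  let pb : ∀ i, Module.Basis (Fin (k i : ℕ)) F (AdjoinRoot (g i)) := fun i =>
    (AdjoinRoot.powerBasis (hg i).2.2.ne_zero).basis.reindex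
      (finCongr (by rw [AdjoinRoot.powerBasis_dim, hdeg]))
  have hpb : ∀ i (j : Fin (k i : ℕ)), pb i j = AdjoinRoot.root (g i) ^ (j : ℕ) := fun i j => by
    simp [pb, PowerBasis.basis_eq_pow, AdjoinRoot.powerBasis_gen]
  let b : Module.Basis (Σ i, Fin (k i : ℕ)) F (Fin d ⊕ Fin d → F) := (Pi.basis pb).map ψ.symm
  have hshift : ∀ i (j : ℕ) (hj : j < (k i : ℕ)), N *ᵥ b ⟨i, ⟨j, hj⟩⟩ =
      if h : j + 1 < (k i : ℕ) then b ⟨i, ⟨j + 1, h⟩⟩ else 0 := by
    intro i j hj
    apply ψ.injective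
    funext l
    rw [hψ]
    simp only [b, Module.Basis.map_apply, LinearEquiv.apply_symm_apply, Pi.basis_apply]
    by_cases hl : l = i
    · subst hl
      rw [Pi.single_eq_same, hpb, ← pow_succ']
      split_ifs with h
      · simp [Pi.basis_apply, hpb]
      · rw [map_zero, Pi.zero_apply]
        have hkl : j + 1 = (k l : ℕ) := by omega
        show AdjoinRoot.root (g l) ^ (j + 1) = 0
        rw [hkl, ← AdjoinRoot.mk_X, ← map_pow, AdjoinRoot.mk_eq_zero, hgk]
    · rw [Pi.single_eq_of_ne hl, mul_zero]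
      split_ifs with h
      · simp [Pi.basis_apply, Pi.single_eq_of_ne hl]
      · simp
  let m : Fin (p + 1) → ℕ := fun c => if (c : ℕ) = 0 then 0 else Fintype.card {i // k i = c}
  have hm : ∀ c : Fin (p + 1), 0 < (c : ℕ) → Fintype.card {i // k i = c} = m c := fun c hc => by
    simp only [m, if_neg (Nat.pos_iff_ne_zero.1 hc)]
  let back : Idx m → Σ i, Fin (k i : ℕ) := fun x =>
    ⟨((Fintype.equivFinOfCardEq (hm x.1 (by have := x.2.2.isLt; omega))).symm x.2.1).1,
      Fin.cast (by rw [((Fintype.equivFinOfCardEq (hm x.1 (by have := x.2.2.isLt; omega))).symm x.2.1).2]) x.2.2⟩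
  have hback : Function.Bijective back := by
    refine ⟨?_, ?_⟩
    · rintro ⟨c, s, i⟩ ⟨c', s', i'⟩ h
      have h1 := congrArg Sigma.fst h
      have h2 : (i : ℕ) = i' := congrArg (fun z : Σ i, Fin (k i : ℕ) => (z.2 : ℕ)) h
      obtain rfl : c = c' :=
        (((Fintype.equivFinOfCardEq (hm c (by have := i.isLt; omega))).symm s).2.symm.trans
          (congrArg k h1)).trans
          ((Fintype.equivFinOfCardEq (hm c' (by have := i'.isLt; omega))).symm s').2
      obtain rfl : s = s' :=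
        (Fintype.equivFinOfCardEq (hm c (by have := i.isLt; omega))).symm.injective (Subtype.ext h1)
      obtain rfl : i = i' := Fin.ext h2
      rfl
    · rintro ⟨i, j⟩
      refine ⟨⟨k i, (Fintype.equivFinOfCardEq (hm (k i) (by have := j.isLt; omega)) ⟨i, rfl⟩, j)⟩, ?_⟩
      have e : (Fintype.equivFinOfCardEq (hm (k i) (by have := j.isLt; omega))).symm
          (Fintype.equivFinOfCardEq (hm (k i) (by have := j.isLt; omega)) ⟨i, rfl⟩) = ⟨i, rfl⟩ :=
        Equiv.symm_apply_apply _ _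
      have key : ∀ (z : {l // k l = k i}), z = ⟨i, rfl⟩ →
          (⟨z.1, Fin.cast (by rw [z.2]) j⟩ : Σ i, Fin (k i : ℕ)) = ⟨i, j⟩ := by
        rintro _ rfl; rfl
      exact key _ e
  let c := b.reindex (Equiv.ofBijective back hback).symm
  have hc : ∀ x, c x = b (back x) := fun x => by simp [c]
  let Q : Matrix (Fin d ⊕ Fin d) (Idx m) F := (Pi.basisFun F (Fin d ⊕ Fin d)).toMatrix c
  let Q' : Matrix (Idx m) (Fin d ⊕ Fin d) F := c.toMatrix (Pi.basisFun F (Fin d ⊕ Fin d))
  have hQ : ∀ a x, Q a x = c x a := fun a x => by simp [Q, Module.Basis.toMatrix_apply]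
  refine ⟨m, Qᵀ * jm d F * Q, by simp [m], Q, Q', Module.Basis.toMatrix_mul_toMatrix_flip _ _,
    Module.Basis.toMatrix_mul_toMatrix_flip _ _, ?_, rfl⟩
  ext a x
  obtain ⟨cc, s, i, hi⟩ := x
  change (N * Q) a (ix cc s i hi) = (Q * nm F m) a (ix cc s i hi)
  have hl : (N * Q) a (ix cc s i hi) = (N *ᵥ c (ix cc s i hi)) a := by
    simp only [Matrix.mul_apply, mulVec, dotProduct, hQ]
  have hr : (Q * nm F m) a (ix cc s i hi) =
      if h : i + 1 < (cc : ℕ) then Q a (ix cc s (i + 1) h) else 0 := by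
    rw [Matrix.mul_apply]
    by_cases h : i + 1 < (cc : ℕ)
    · rw [dif_pos h, Finset.sum_eq_single (ix cc s (i + 1) h)]
      · rw [nm_ix, if_pos ⟨rfl, rfl, rfl⟩, mul_one]
      · rintro ⟨k', s', i', hi'⟩ - hne
        show Q a _ * nm F m (ix k' s' i' hi') _ = 0
        rw [nm_ix, if_neg, mul_zero]
        rintro ⟨rfl, h1, rfl⟩
        exact hne (by rw [Fin.ext h1])
      · simp
    · rw [dif_neg h]
      refine Finset.sum_eq_zero ?_
      rintro ⟨k', s', i', hi'⟩ -
      show Q a _ * nm F m (ix k' s' i' hi') _ = 0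
      rw [nm_ix, if_neg, mul_zero]
      rintro ⟨rfl, -, rfl⟩
      exact h hi'
  rw [hl, hr, hc]
  set z := (Fintype.equivFinOfCardEq (hm cc (by omega))).symm s with hz
  have hkz : (k z.1 : ℕ) = (cc : ℕ) := by rw [z.2]
  show (N *ᵥ b ⟨z.1, ⟨i, by omega⟩⟩) a = _
  rw [hshift]
  by_cases h : i + 1 < (cc : ℕ)
  · rw [dif_pos h, dif_pos (by omega), hQ, hc]
    rfl
  · rw [dif_neg h, dif_neg (by omega)]
    rfl

end Cfsg.Agent.SpUnip77
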