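import Mathlib

/-!
Skew nilpotent matrices in Jordan shape: leading parts of the forms they preserve, and of the matrices
commuting with them (helper77).
-/

set_option autoImplicit false
set_option linter.unusedSectionVars false
set_option linter.style.haveILetI false

namespace Cfsg.Agent.SpUnip77

open Matrix
open scoped Kronecker

variable {p : ℕ}

/-- The index set: `m k` blocks of size `k`. -/
abbrev Idx (m : Fin (p + 1) → ℕ) : Type := Σ k : Fin (p + 1), Fin (m k) × Fin (k : ℕ)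

variable {m : Fin (p + 1) → ℕ}

/-- An index. -/
abbrev ix (k : Fin (p + 1)) (s : Fin (m k)) (i : ℕ) (h : i < (k : ℕ)) : Idx m := ⟨k, (s, ⟨i, h⟩)⟩

/-- The weight. -/
def wt (x : Idx m) : ℤ := 2 * ((x.2.2 : ℕ) : ℤ) - ((x.1 : ℕ) : ℤ)

theorem wt_ix (k : Fin (p + 1)) (s : Fin (m k)) (i : ℕ) (h : i < (k : ℕ)) :
    wt (ix k s i h) = 2 * (i : ℤ) - ((k : ℕ) : ℤ) := rfl

theorem wt_range (x : Idx m) : -(p : ℤ) ≤ wt x ∧ wt x ≤ p := by
  obtain ⟨k, s, i, hi⟩ := x
  have := k.isLt
  simp only [wt]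
  omega

/-- Reversing the blocks. -/
def rv : Idx m ≃ Idx m := Equiv.sigmaCongrRight fun _ => (Equiv.refl _).prodCongr Fin.revPerm

theorem wt_rv (x : Idx m) : wt (rv x) = -2 - wt x := by
  obtain ⟨k, s, i, hi⟩ := x
  show 2 * (((Fin.rev ⟨i, hi⟩ : Fin (k : ℕ)) : ℕ) : ℤ) - ((k : ℕ) : ℤ) =
    -2 - (2 * (i : ℤ) - ((k : ℕ) : ℤ))
  rw [Fin.val_rev]
  dsimp only
  omega

theorem rv_rv (x : Idx m) : rv (rv x) = x := by
  obtain ⟨k, s, i⟩ := x
  show (⟨k, (s, Fin.rev (Fin.rev i))⟩ : Idx m) = _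
  rw [Fin.rev_rev]

variable {F : Type*} [Field F]

/-- The shift. -/
def sh (F : Type*) [Field F] (k : ℕ) : Matrix (Fin k) (Fin k) F :=
  of fun i j => if (i : ℕ) = j + 1 then 1 else 0

/-- The antidiagonal of signs. -/
def anti (F : Type*) [Field F] (k : ℕ) : Matrix (Fin k) (Fin k) F :=
  of fun i j => if (i : ℕ) + j + 1 = k then (-1) ^ (i : ℕ) else 0

/-- The model nilpotent matrix. -/
def nm (F : Type*) [Field F] (m : Fin (p + 1) → ℕ) : Matrix (Idx m) (Idx m) F :=
  blockDiagonal' fun k => (1 : Matrix (Fin (m k)) (Fin (m k)) F) ⊗ₖ sh F (k : ℕ)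

theorem nm_ix (k l : Fin (p + 1)) (s : Fin (m k)) (t : Fin (m l)) (i j : ℕ) (hi : i < (k : ℕ))
    (hj : j < (l : ℕ)) :
    nm F m (ix k s i hi) (ix l t j hj) = if k = l ∧ (s : ℕ) = t ∧ i = j + 1 then 1 else 0 := by
  by_cases h : k = l
  · subst h
    rw [nm, blockDiagonal'_apply_eq, kronecker_apply, sh, of_apply, one_apply]
    by_cases h1 : s = t <;> by_cases h2 : i = j + 1 <;> simp [h1, h2, Fin.val_inj]
  · rw [nm, blockDiagonal'_apply_ne _ _ _ h, if_neg fun e => h e.1]

theorem mul_nm_apply (M : Matrix (Idx m) (Idx m) F) (x : Idx m) (l : Fin (p + 1)) (t : Fin (m l)) (j : ℕ)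
    (hj : j < (l : ℕ)) :
    (M * nm F m) x (ix l t j hj) = if h : j + 1 < (l : ℕ) then M x (ix l t (j + 1) h) else 0 := by
  rw [mul_apply]
  by_cases h : j + 1 < (l : ℕ)
  · rw [dif_pos h, Finset.sum_eq_single (ix l t (j + 1) h)]
    · rw [nm_ix, if_pos ⟨rfl, rfl, rfl⟩, mul_one]
    · rintro ⟨k, s, i, hi⟩ - hne
      show M x _ * nm F m (ix k s i hi) _ = 0
      rw [nm_ix, if_neg, mul_zero]
      rintro ⟨rfl, h1, rfl⟩
      exact hne (by rw [Fin.ext h1])
    · simp
  · rw [dif_neg h]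
    refine Finset.sum_eq_zero ?_
    rintro ⟨k, s, i, hi⟩ -
    show M x _ * nm F m (ix k s i hi) _ = 0
    rw [nm_ix, if_neg, mul_zero]
    rintro ⟨rfl, -, rfl⟩
    exact h hi

theorem nm_mul_apply (M : Matrix (Idx m) (Idx m) F) (k : Fin (p + 1)) (s : Fin (m k)) (i : ℕ)
    (hi : i < (k : ℕ)) (y : Idx m) :
    (nm F m * M) (ix k s i hi) y =
      if 0 < i then M (ix k s (i - 1) (by omega)) y else 0 := by
  rw [mul_apply]
  by_cases h : 0 < i
  · rw [if_pos h, Finset.sum_eq_single (ix k s (i - 1) (by omega))]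
    · rw [nm_ix, if_pos ⟨rfl, rfl, by omega⟩, one_mul]
    · rintro ⟨l, t, j, hj⟩ - hne
      show nm F m _ (ix l t j hj) * M _ y = 0
      rw [nm_ix, if_neg, zero_mul]
      rintro ⟨rfl, h1, rfl⟩
      exact hne (by rw [Fin.ext h1.symm]; simp)
    · simp
  · rw [if_neg h]
    refine Finset.sum_eq_zero ?_
    rintro ⟨l, t, j, hj⟩ -
    show nm F m _ (ix l t j hj) * M _ y = 0
    rw [nm_ix, if_neg, zero_mul]
    rintro ⟨-, -, rfl⟩
    omega

theorem nmT_mul_apply (M : Matrix (Idx m) (Idx m) F) (k : Fin (p + 1)) (s : Fin (m k)) (i : ℕ)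
    (hi : i < (k : ℕ)) (y : Idx m) :
    ((nm F m)ᵀ * M) (ix k s i hi) y = if h : i + 1 < (k : ℕ) then M (ix k s (i + 1) h) y else 0 := by
  have := mul_nm_apply Mᵀ y k s i hi
  rw [← transpose_transpose ((nm F m)ᵀ * M), transpose_mul, transpose_transpose, transpose_apply, this]
  rfl

/-- An alternating form for which the model is skew. -/
structure IsForm (B : Matrix (Idx m) (Idx m) F) : Prop where
  skew : (nm F m)ᵀ * B = -(B * nm F m)
  alt : Bᵀ = -B

theorem IsForm.swap {B : Matrix (Idx m) (Idx m) F} (hB : IsForm B) (x y : Idx m) : B x y = -B y x := by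
  have := congrFun (congrFun hB.alt y) x
  rw [transpose_apply, Matrix.neg_apply] at this
  exact this

theorem IsForm.step {B : Matrix (Idx m) (Idx m) F} (hB : IsForm B) (k l : Fin (p + 1)) (s : Fin (m k))
    (t : Fin (m l)) (i j : ℕ) (hi : i + 1 < (k : ℕ)) (hj : j < (l : ℕ)) :
    B (ix k s (i + 1) hi) (ix l t j hj) =
      -if h : j + 1 < (l : ℕ) then B (ix k s i (by omega)) (ix l t (j + 1) h) else 0 := by
  have := congrFun (congrFun hB.skew (ix k s i (by omega))) (ix l t j hj)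
  rwa [nmT_mul_apply, dif_pos hi, Matrix.neg_apply, mul_nm_apply] at this

theorem IsForm.right_zero {B : Matrix (Idx m) (Idx m) F} (hB : IsForm B) (k l : Fin (p + 1))
    (s : Fin (m k)) (t : Fin (m l)) : ∀ (i j : ℕ) (hi : i < (k : ℕ)) (hj : j < (l : ℕ)), (l : ℕ) ≤ i + j →
      B (ix k s i hi) (ix l t j hj) = 0 := by
  intro i
  induction i with
  | zero => intro j _ hj h; omega
  | succ i ih =>
    intro j hi hj h
    rw [hB.step]
    split_ifs with h'
    · rw [ih _ _ _ (by omega), neg_zero]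
    · exact neg_zero

theorem IsForm.zero {B : Matrix (Idx m) (Idx m) F} (hB : IsForm B) {x y : Idx m}
    (h : -2 < wt x + wt y) : B x y = 0 := by
  obtain ⟨k, s, i, hi⟩ := x
  obtain ⟨l, t, j, hj⟩ := y
  simp only [wt] at h
  rcases le_or_gt (l : ℕ) (i + j) with h' | h'
  · exact hB.right_zero k l s t i j hi hj h'
  · rw [hB.swap, neg_eq_zero]
    exact hB.right_zero l k t s j i hj hi (by omega)

theorem IsForm.eq_of_ne {B : Matrix (Idx m) (Idx m) F} (hB : IsForm B) {k l : Fin (p + 1)}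
    {s : Fin (m k)} {t : Fin (m l)} {i j : ℕ} {hi : i < (k : ℕ)} {hj : j < (l : ℕ)}
    (h : wt (ix k s i hi) + wt (ix l t j hj) = -2) (hne : B (ix k s i hi) (ix l t j hj) ≠ 0) :
    k = l ∧ i + j + 1 = (k : ℕ) := by
  have h1 : ¬ (l : ℕ) ≤ i + j := fun e => hne (hB.right_zero k l s t i j hi hj e)
  have h2 : ¬ (k : ℕ) ≤ i + j := fun e => hne (by
    rw [hB.swap, neg_eq_zero]; exact hB.right_zero l k t s j i hj hi (by omega))
  simp only [wt] at h
  exact ⟨Fin.ext (by omega), by omega⟩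

/-- The leading form on the blocks of size `k`. -/
def lead (B : Matrix (Idx m) (Idx m) F) (k : Fin (p + 1)) : Matrix (Fin (m k)) (Fin (m k)) F :=
  of fun s t => if h : 0 < (k : ℕ) then B (ix k s 0 h) (ix k t ((k : ℕ) - 1) (by omega)) else 0

theorem IsForm.lead_apply {B : Matrix (Idx m) (Idx m) F} (hB : IsForm B) (k : Fin (p + 1))
    (s t : Fin (m k)) : ∀ (i j : ℕ) (hi : i < (k : ℕ)) (hj : j < (k : ℕ)), i + j + 1 = (k : ℕ) →
      B (ix k s i hi) (ix k t j hj) = (-1) ^ i * lead B k s t := by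
  intro i
  induction i with
  | zero =>
    intro j hi hj h
    obtain rfl : j = (k : ℕ) - 1 := by omega
    rw [lead, of_apply, dif_pos hi, pow_zero, one_mul]
  | succ i ih =>
    intro j hi hj h
    rw [hB.step, dif_pos (by omega), ih _ _ _ (by omega), pow_succ]
    ring

theorem IsForm.lead_transpose {B : Matrix (Idx m) (Idx m) F} (hB : IsForm B) {k : Fin (p + 1)}
    (hk : 0 < (k : ℕ)) : (lead B k)ᵀ = (-1 : F) ^ (k : ℕ) • lead B k := by
  ext s t
  rw [transpose_apply, Matrix.smul_apply, smul_eq_mul]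
  conv_lhs => rw [lead, of_apply, dif_pos hk, hB.swap,
    hB.lead_apply k s t ((k : ℕ) - 1) 0 _ _ (by omega)]
  conv_rhs => rw [show (k : ℕ) = (k : ℕ) - 1 + 1 by omega, pow_succ]
  ring

/-- The leading part on the blocks of size `k` of a matrix commuting with the model. -/
def top (T : Matrix (Idx m) (Idx m) F) (k : Fin (p + 1)) : Matrix (Fin (m k)) (Fin (m k)) F :=
  of fun s t => if h : 0 < (k : ℕ) then T (ix k s 0 h) (ix k t 0 h) else 0

theorem comm_step {T : Matrix (Idx m) (Idx m) F} (hT : Commute T (nm F m)) (x : Idx m) (l : Fin (p + 1))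
    (t : Fin (m l)) (j : ℕ) (hj : j < (l : ℕ)) :
    (if h : j + 1 < (l : ℕ) then T x (ix l t (j + 1) h) else 0) =
      if 0 < (x.2.2 : ℕ) then T (ix x.1 x.2.1 ((x.2.2 : ℕ) - 1) (by have := x.2.2.isLt; omega)) (ix l t j hj)
      else 0 := by
  have := congrFun (congrFun hT.eq x) (ix l t j hj)
  rw [mul_nm_apply] at this
  rw [this]
  obtain ⟨k, s, i, hi⟩ := x
  exact nm_mul_apply T k s i hi _

theorem comm_left_zero {T : Matrix (Idx m) (Idx m) F} (hT : Commute T (nm F m)) (k l : Fin (p + 1))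
    (s : Fin (m k)) (t : Fin (m l)) : ∀ (j i : ℕ) (hi : i < (k : ℕ)) (hj : j < (l : ℕ)), i < j →
      T (ix k s i hi) (ix l t j hj) = 0 := by
  intro j
  induction j with
  | zero => intro i _ _ h; omega
  | succ j ih =>
    intro i hi hj h
    have := comm_step hT (ix k s i hi) l t j (by omega)
    rw [dif_pos hj] at this
    rw [this]
    split_ifs with h'
    · exact ih _ _ _ (by change 0 < i at h'; show i - 1 < j; omega)
    · rfl

theorem comm_right_zero {T : Matrix (Idx m) (Idx m) F} (hT : Commute T (nm F m)) (k l : Fin (p + 1))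
    (s : Fin (m k)) (t : Fin (m l)) : ∀ (d i j : ℕ) (hi : i < (k : ℕ)) (hj : j < (l : ℕ)), d + j + 1 = (l : ℕ) →
      i + (l : ℕ) < (k : ℕ) + j → T (ix k s i hi) (ix l t j hj) = 0 := by
  intro d
  induction d with
  | zero =>
    intro i j hi hj hd h
    have hi1 : i + 1 < (k : ℕ) := by omega
    have := comm_step hT (ix k s (i + 1) hi1) l t j hj
    rw [dif_neg (by omega)] at this
    simpa using this.symm
  | succ d ih =>
    intro i j hi hj hd h
    have hi1 : i + 1 < (k : ℕ) := by omega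
    have := comm_step hT (ix k s (i + 1) hi1) l t j hj
    rw [dif_pos (show j + 1 < (l : ℕ) by omega), ih _ _ _ _ (by omega) (by omega)] at this
    simpa using this.symm

theorem comm_zero {T : Matrix (Idx m) (Idx m) F} (hT : Commute T (nm F m)) {x y : Idx m}
    (h : wt x < wt y) : T x y = 0 := by
  obtain ⟨k, s, i, hi⟩ := x
  obtain ⟨l, t, j, hj⟩ := y
  simp only [wt] at h
  rcases lt_or_ge i j with h' | h'
  · exact comm_left_zero hT k l s t j i hi hj h'
  · exact comm_right_zero hT k l s t ((l : ℕ) - j - 1) i j hi hj (by omega) (by omega)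

theorem comm_eq_of_ne {T : Matrix (Idx m) (Idx m) F} (hT : Commute T (nm F m)) {k l : Fin (p + 1)}
    {s : Fin (m k)} {t : Fin (m l)} {i j : ℕ} {hi : i < (k : ℕ)} {hj : j < (l : ℕ)}
    (h : wt (ix k s i hi) = wt (ix l t j hj)) (hne : T (ix k s i hi) (ix l t j hj) ≠ 0) :
    k = l ∧ i = j := by
  have h1 : ¬ i < j := fun e => hne (comm_left_zero hT k l s t j i hi hj e)
  have h2 : ¬ i + (l : ℕ) < (k : ℕ) + j := fun e =>
    hne (comm_right_zero hT k l s t ((l : ℕ) - j - 1) i j hi hj (by omega) e)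
  simp only [wt] at h
  exact ⟨Fin.ext (by omega), by omega⟩

theorem top_apply {T : Matrix (Idx m) (Idx m) F} (hT : Commute T (nm F m)) (k : Fin (p + 1))
    (s t : Fin (m k)) : ∀ (i : ℕ) (hi : i < (k : ℕ)), T (ix k s i hi) (ix k t i hi) = top T k s t := by
  intro i
  induction i with
  | zero => intro hi; rw [top, of_apply, dif_pos hi]
  | succ i ih =>
    intro hi
    have := comm_step hT (ix k s (i + 1) hi) k t i (by omega)
    rw [dif_pos hi, if_pos (Nat.succ_pos i)] at this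
    rw [this]
    exact ih (by omega)

theorem top_one (k : Fin (p + 1)) (hk : 0 < (k : ℕ)) :
    top (1 : Matrix (Idx m) (Idx m) F) k = 1 := by
  ext s t
  rw [top, of_apply, dif_pos hk, one_apply, one_apply]
  by_cases h : s = t
  · rw [if_pos h, if_pos (by rw [h])]
  · rw [if_neg h, if_neg]
    intro e
    exact h (Prod.ext_iff.1 (eq_of_heq (Sigma.mk.inj_iff.1 e).2)).1

/-- Leading forms after a change by matrices commuting with the model. -/
theorem lead_mul {T U : Matrix (Idx m) (Idx m) F} (hT : Commute T (nm F m)) (hU : Commute U (nm F m))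
    {B : Matrix (Idx m) (Idx m) F} (hB : IsForm B) {k : Fin (p + 1)} (hk : 0 < (k : ℕ)) :
    lead (Tᵀ * B * U) k = (top T k)ᵀ * lead B k * top U k := by
  ext s t
  have hk1 : (k : ℕ) - 1 < (k : ℕ) := by omega
  set x := ix k s 0 hk with hx
  set y := ix k t ((k : ℕ) - 1) hk1 with hy
  have hxy : wt x + wt y = -2 := by rw [hx, hy, wt_ix, wt_ix]; omega
  have inner : ∀ b, T b x ≠ 0 → ∀ c, B b c * U c y ≠ 0 →
      ∃ u v : Fin (m k), b = ix k u 0 hk ∧ c = ix k v ((k : ℕ) - 1) hk1 := by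
    intro b hb c hc
    have h1 : wt x ≤ wt b := le_of_not_gt fun e => hb (comm_zero hT e)
    have h2 : wt y ≤ wt c := le_of_not_gt fun e => (right_ne_zero_of_mul hc) (comm_zero hU e)
    have h3 : wt b + wt c ≤ -2 := le_of_not_gt fun e => (left_ne_zero_of_mul hc) (hB.zero e)
    have e1 : wt b = wt x := by omega
    have e2 : wt c = wt y := by omega
    obtain ⟨k', u, i, hi⟩ := b
    obtain ⟨l', v, j, hj⟩ := c
    obtain ⟨rfl, rfl⟩ := comm_eq_of_ne hT (hi := hi) (hj := hk) e1 hb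
    obtain ⟨rfl, rfl⟩ := comm_eq_of_ne hU (hi := hj) (hj := hk1) e2
      (right_ne_zero_of_mul hc)
    exact ⟨u, v, rfl, rfl⟩
  rw [lead, of_apply, dif_pos hk, mul_assoc, mul_apply]
  simp only [transpose_apply, mul_apply, Finset.mul_sum, Finset.sum_mul]
  rw [← Fintype.sum_of_injective (fun u : Fin (m k) => ix k u 0 hk) (fun u v e => by
      exact (Prod.ext_iff.1 (eq_of_heq (Sigma.mk.inj_iff.1 e).2)).1)
    (fun u => ∑ v, top T k u s * (lead B k u v * top U k v t)) _ ?_ ?_]
  · rw [Finset.sum_comm]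
    exact Finset.sum_congr rfl fun v _ => Finset.sum_congr rfl fun u _ => (mul_assoc _ _ _).symm
  · intro b hb
    refine Finset.sum_eq_zero fun c _ => ?_
    by_contra hne
    obtain ⟨u, v, rfl, -⟩ := inner b (left_ne_zero_of_mul hne) c (right_ne_zero_of_mul hne)
    exact hb ⟨u, rfl⟩
  · intro u
    refine Fintype.sum_of_injective (fun v : Fin (m k) => ix k v ((k : ℕ) - 1) hk1) (fun u v e => by
      exact (Prod.ext_iff.1 (eq_of_heq (Sigma.mk.inj_iff.1 e).2)).1) _ _ (fun c hc => ?_) (fun v => ?_)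
    · by_contra hne
      obtain ⟨u', v, -, rfl⟩ := inner _ (left_ne_zero_of_mul hne) c (right_ne_zero_of_mul hne)
      exact hc ⟨v, rfl⟩
    · rw [top_apply hT, top_apply hU, hB.lead_apply k u v 0 _ _ _ (by omega), pow_zero, one_mul]

/-- A matrix moving weights strictly up is nilpotent. -/
theorem pow_zero_of_weight {ι : Type*} [Fintype ι] [DecidableEq ι] (w : ι → ℤ) (lo hi : ℤ)
    (hw : ∀ x, lo ≤ w x ∧ w x ≤ hi) (M : Matrix ι ι F) (hM : ∀ x y, M x y ≠ 0 → w y + 1 ≤ w x) {n : ℕ}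
    (hn : hi - lo < n) : M ^ n = 0 := by
  have key : ∀ n : ℕ, ∀ x y, (M ^ n) x y ≠ 0 → w y + n ≤ w x := by
    intro n
    induction n with
    | zero =>
      intro x y h
      rw [pow_zero, one_apply] at h
      split_ifs at h with e
      · simp [e]
      · exact absurd rfl h
    | succ n ih =>
      intro x y h
      rw [pow_succ, mul_apply] at h
      obtain ⟨z, -, hz⟩ := Finset.exists_ne_zero_of_sum_ne_zero h
      have h1 := ih x z (left_ne_zero_of_mul hz)
      have h2 := hM z y (right_ne_zero_of_mul hz)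
      push_cast
      omega
  ext x y
  by_contra h
  have := key n x y h
  have := hw x
  have := hw y
  omega

theorem nm_pow : nm F m ^ p = 0 := by
  rcases Nat.eq_zero_or_pos p with rfl | hp
  · ext ⟨k, s, i, hi⟩ y
    have := k.isLt
    omega
  refine pow_zero_of_weight (fun x => ((x.2.2 : ℕ) : ℤ)) 0 ((p : ℤ) - 1) ?_ _ ?_ (by omega)
  · rintro ⟨k, s, i, hi⟩
    have := k.isLt
    dsimp
    omega
  · rintro ⟨k, s, i, hi⟩ ⟨l, t, j, hj⟩ h
    change nm F m (ix k s i hi) (ix l t j hj) ≠ 0 at h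
    rw [nm_ix] at h
    split_ifs at h with e
    · dsimp; omega
    · exact absurd rfl h

theorem nm_rv : (nm F m).submatrix rv rv = (nm F m)ᵀ := by
  ext ⟨k, s, i, hi⟩ ⟨l, t, j, hj⟩
  show nm F m (ix k s (Fin.rev ⟨i, hi⟩ : Fin (k : ℕ)) (Fin.rev _).isLt)
    (ix l t (Fin.rev ⟨j, hj⟩ : Fin (l : ℕ)) (Fin.rev _).isLt) = nm F m (ix l t j hj) (ix k s i hi)
  rw [nm_ix, nm_ix]
  refine if_congr ⟨?_, ?_⟩ rfl rfl <;> rintro ⟨rfl, h1, h2⟩ <;> refine ⟨rfl, h1.symm, ?_⟩ <;>
    simp only [Fin.val_rev] at * <;> omega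

/-- The leading forms of a nondegenerate form are nondegenerate. -/
theorem IsForm.lead_det {B : Matrix (Idx m) (Idx m) F} (hB : IsForm B) (hd : IsUnit B.det)
    {k : Fin (p + 1)} (hk : 0 < (k : ℕ)) : (lead B k).det ≠ 0 := by
  set R := B⁻¹ with hR
  have hBR : B * R = 1 := mul_nonsing_inv B hd
  have hRB : R * B = 1 := nonsing_inv_mul B hd
  have hRalt : Rᵀ = -R := by
    have h : Rᵀ * Bᵀ = 1 := by rw [← transpose_mul, hBR, transpose_one]
    rw [hB.alt, Matrix.mul_neg, ← Matrix.neg_mul] at h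
    calc Rᵀ = -(-Rᵀ * B * R) := by rw [mul_assoc, hBR, mul_one, neg_neg]
      _ = -R := by rw [h, one_mul]
  have hRs : nm F m * R = -(R * (nm F m)ᵀ) := by
    calc nm F m * R = R * (B * nm F m) * R := by rw [← mul_assoc R, hRB, one_mul]
      _ = -(R * (nm F m)ᵀ * (B * R)) := by
        rw [show B * nm F m = -((nm F m)ᵀ * B) by rw [hB.skew, neg_neg]]
        simp only [Matrix.mul_neg, Matrix.neg_mul, mul_assoc]
      _ = -(R * (nm F m)ᵀ) := by rw [hBR, mul_one]
  set R' := R.submatrix rv rv with hR'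
  have hR'f : IsForm R' := by
    refine ⟨?_, ?_⟩
    · rw [← nm_rv, hR', submatrix_mul_equiv, hRs]
      rw [show nm F m = ((nm F m).submatrix rv rv)ᵀ by rw [nm_rv, transpose_transpose]]
      rw [transpose_submatrix, submatrix_mul_equiv]
      rw [← transpose_submatrix (nm F m) rv rv, nm_rv, transpose_transpose]
      rfl
    · rw [hR', transpose_submatrix, hRalt]
      rfl
  have hk1 : (k : ℕ) - 1 < (k : ℕ) := by omega
  have key : lead B k * (of fun v t => R (ix k v ((k : ℕ) - 1) hk1) (ix k t 0 hk)) = 1 := by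
    ext s t
    have h := congrFun (congrFun hBR (ix k s 0 hk)) (ix k t 0 hk)
    rw [one_apply] at h
    have e : (if ix k s 0 hk = ix k t 0 hk then (1 : F) else 0) = if s = t then 1 else 0 :=
      if_congr ⟨fun e => (Prod.ext_iff.1 (eq_of_heq (Sigma.mk.inj_iff.1 e).2)).1, fun e => by rw [e]⟩ rfl rfl
    rw [one_apply, ← e, ← h, mul_apply, mul_apply]
    refine Fintype.sum_of_injective (fun v : Fin (m k) => ix k v ((k : ℕ) - 1) hk1) (fun u v e => by
      exact (Prod.ext_iff.1 (eq_of_heq (Sigma.mk.inj_iff.1 e).2)).1) _ _ (fun b hb => ?_) (fun v => ?_)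
    · by_contra hne
      have h1 : wt (ix k s 0 hk) + wt b ≤ -2 := le_of_not_gt fun e => (left_ne_zero_of_mul hne) (hB.zero e)
      have h2 : wt (rv b) + wt (rv (ix k t 0 hk)) ≤ -2 := le_of_not_gt fun e =>
        (right_ne_zero_of_mul hne) (by simpa [hR', rv_rv] using hR'f.zero e)
      rw [wt_rv, wt_rv] at h2
      have h3 : wt (ix k s 0 hk) + wt b = -2 := by
        have : wt (ix k t 0 hk) = wt (ix k s 0 hk) := rfl
        have : wt (ix k t 0 hk) = -((k : ℕ) : ℤ) := by rw [wt_ix]; simp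
        omega
      obtain ⟨l, v, j, hj⟩ := b
      obtain ⟨rfl, h4⟩ := hB.eq_of_ne h3 (left_ne_zero_of_mul hne)
      obtain rfl : j = (k : ℕ) - 1 := by omega
      exact hb ⟨v, rfl⟩
    · rw [of_apply, lead, of_apply, dif_pos hk]
  intro h0
  have := congrArg Matrix.det key
  rw [det_mul, h0, zero_mul, det_one] at this
  exact zero_ne_one this

variable (q : ℕ) [Fact q.Prime] [CharP F q]

/-- Two forms with the same leading forms differ by a matrix commuting with the model. -/
theorem exists_sqrt (hq : q ≠ 2) {B B' : Matrix (Idx m) (Idx m) F} (hB : IsForm B) (hB' : IsForm B')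
    (hd : IsUnit B.det) (hlead : ∀ k : Fin (p + 1), 0 < (k : ℕ) → lead B' k = lead B k) :
    ∃ φ : Matrix (Idx m) (Idx m) F, Commute φ (nm F m) ∧ φᵀ * B * φ = B' := by
  obtain ⟨S, hBS⟩ : ∃ S, B * S = B' := ⟨B⁻¹ * B', by rw [← mul_assoc, mul_nonsing_inv B hd, one_mul]⟩
  have hcomm : Commute S (nm F m) := by
    have h : B * (S * nm F m) = B * (nm F m * S) := by
      rw [← mul_assoc, hBS, ← mul_assoc, show B * nm F m = -((nm F m)ᵀ * B) by rw [hB.skew, neg_neg],
        Matrix.neg_mul, mul_assoc, hBS, hB'.skew, neg_neg]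
    calc S * nm F m = B⁻¹ * (B * (S * nm F m)) := by rw [← mul_assoc B⁻¹, nonsing_inv_mul B hd, one_mul]
      _ = nm F m * S := by rw [h, ← mul_assoc B⁻¹, nonsing_inv_mul B hd, one_mul]
  have hsa : Sᵀ * B = B * S := by
    have := congrArg Matrix.transpose hBS
    rw [transpose_mul, hB.alt, hB'.alt, Matrix.mul_neg, neg_inj] at this
    rw [this, hBS]
  have hone : ∀ k : Fin (p + 1), 0 < (k : ℕ) → top S k = 1 := by
    intro k hk
    have h := lead_mul (Commute.one_left (nm F m)) hcomm hB hk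
    rw [top_one k hk, transpose_one, transpose_one, one_mul, one_mul, hBS, hlead k hk] at h
    have hu : IsUnit (lead B k).det := isUnit_iff_ne_zero.2 (hB.lead_det hd hk)
    calc top S k = (lead B k)⁻¹ * (lead B k * top S k) := by
          rw [← mul_assoc, nonsing_inv_mul _ hu, one_mul]
      _ = 1 := by rw [← h, nonsing_inv_mul _ hu]
  have hnil : (S - 1) ^ (2 * p + 1) = 0 := by
    refine pow_zero_of_weight wt (-(p : ℤ)) p wt_range _ (fun x y h => ?_) (by push_cast; omega)
    by_contra hlt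
    apply h
    rw [Matrix.sub_apply]
    rcases lt_or_eq_of_le (show wt x ≤ wt y by omega) with hlt' | heq
    · rw [comm_zero hcomm hlt', one_apply_ne fun e => by simp [e] at hlt', sub_zero]
    · by_cases hxy : x = y
      · subst hxy
        obtain ⟨k, s, i, hi⟩ := x
        change S (ix k s i hi) (ix k s i hi) - (1 : Matrix (Idx m) (Idx m) F) _ _ = 0
        rw [one_apply_eq, top_apply hcomm, hone k (by omega), one_apply_eq, sub_self]
      · rw [one_apply_ne hxy, sub_zero]
        obtain ⟨k, s, i, hi⟩ := x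
        obtain ⟨l, t, j, hj⟩ := y
        change S (ix k s i hi) (ix l t j hj) = 0
        by_contra hne
        obtain ⟨rfl, rfl⟩ := comm_eq_of_ne hcomm heq hne
        rw [top_apply hcomm, hone k (by omega), one_apply] at hne
        split_ifs at hne with e
        · exact hxy (by rw [e])
        · exact hne rfl
  have hq2 : 2 ≤ q := (Fact.out : q.Prime).two_le
  set n := q ^ (2 * p + 1) with hn
  have hpn : 2 * p + 1 ≤ n := (Nat.lt_pow_self (show 1 < q by omega)).le
  have hSn : S ^ n = 1 := by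
    rcases isEmpty_or_nonempty (Idx m) with he | he
    · exact Subsingleton.elim _ _
    haveI : CharP (Matrix (Idx m) (Idx m) F) q := charP_of_injective_algebraMap
      (FaithfulSMul.algebraMap_injective F (Matrix (Idx m) (Idx m) F)) q
    have h := sub_pow_char_pow_of_commute (p := q) (n := 2 * p + 1) (Commute.one_right S)
    rw [← hn, pow_eq_zero_of_le hpn hnil, one_pow] at h
    exact (sub_eq_zero.1 h.symm)
  obtain ⟨r, hr⟩ : 2 ∣ n + 1 := by
    have hodd : Odd n := ((Fact.out : q.Prime).odd_of_ne_two hq).pow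
    exact even_iff_two_dvd.1 (Odd.add_one hodd)
  have hφ : ∀ j : ℕ, (S ^ j)ᵀ * B = B * S ^ j := by
    intro j
    induction j with
    | zero => simp
    | succ j ih =>
      rw [pow_succ, transpose_mul, mul_assoc, ih, ← mul_assoc, hsa, mul_assoc,
        (Commute.self_pow S j).eq]
  refine ⟨S ^ r, hcomm.pow_left r, ?_⟩
  rw [hφ, mul_assoc, ← pow_add, ← two_mul, ← hr, pow_succ, hSn, one_mul, hBS]

end Cfsg.Agent.SpUnip77
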